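import Groth.Agent.Lib.FibDim14.Comp
import Groth.Agent.Lib.DimF18.Prod

/-!
# Fibre dimensions and base change
-/

universe u

open CategoryTheory Limits AlgebraicGeometry Order Topology

set_option backward.isDefEq.respectTransparency.types false

namespace Groth.Agent.FibDim14

open Groth.Agent.VarDim

variable {X S X' S' : Scheme.{u}} {f : X ⟶ S} {g : S' ⟶ S} {g' : X' ⟶ X} {f' : X' ⟶ S'}
  [LocallyOfFiniteType f] [LocallyOfFiniteType f']

/-- the residue field extension -/
noncomputable def resExt (g : S' ⟶ S) (s' : S') :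
    CommRingCat.of ↑(S.residueField (g s')) ⟶ CommRingCat.of ↑(S'.residueField s') := g.residueFieldMap s'

omit [LocallyOfFiniteType f] [LocallyOfFiniteType f'] in
theorem exists_fibre_square (hsq : IsPullback g' f' f g) (s' : S') :
    ∃ pr : f'.fiber s' ⟶ f.fiber (g s'),
      (∀ z, f.fiberι (g s') (pr z) = g' (f'.fiberι s' z)) ∧
        IsPullback pr (toPt f' s') (toPt f (g s')) (Spec.map (resExt g s')) := by
  have w : (f'.fiberι s' ≫ g') ≫ f =
      (f'.fiberToSpecResidueField s' ≫ Spec.map (g.residueFieldMap s')) ≫ S.fromSpecResidueField (g s') := by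
    rw [Category.assoc, hsq.w, ← Category.assoc, Scheme.Hom.fiber_fac, Category.assoc, Category.assoc,
      Scheme.Hom.SpecMap_residueFieldMap_fromSpecResidueField]
  let pr : f'.fiber s' ⟶ f.fiber (g s') := pullback.lift _ _ w
  have h1 : pr ≫ f.fiberι (g s') = f'.fiberι s' ≫ g' := pullback.lift_fst _ _ _
  have h2 : pr ≫ toPt f (g s') = toPt f' s' ≫ Spec.map (g.residueFieldMap s') := pullback.lift_snd _ _ _
  refine ⟨pr, fun z => by rw [← Scheme.Hom.comp_apply, h1, Scheme.Hom.comp_apply], ?_⟩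
  have left : IsPullback (f'.fiberι s') (toPt f' s') f' (S'.fromSpecResidueField s') := IsPullback.of_hasPullback _ _
  have big := left.paste_horiz hsq
  rw [← h1, ← Scheme.Hom.SpecMap_residueFieldMap_fromSpecResidueField] at big
  exact IsPullback.of_right big h2 (IsPullback.of_hasPullback _ _)

theorem rd_baseChange_le (hsq : IsPullback g' f' f g) (x' : X') : rd f' x' ≤ rd f (g' x') := by
  obtain ⟨pr, hpr, sq⟩ := exists_fibre_square hsq (f' x')
  have h := (DimF18.sdim_bc sq (f'.asFiber x')).1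
  rw [← rd_fiberι, ← rd_fiberι, hpr, f'.fiberι_asFiber] at h
  exact h

theorem fibreDimAt_baseChange (hsq : IsPullback g' f' f g) (x' : X') :
    FlatMor.fibreDimAt f' x' = FlatMor.fibreDimAt f (g' x') := by
  obtain ⟨pr, hpr, sq⟩ := exists_fibre_square hsq (f' x')
  have hfib : f (g' x') = g (f' x') := by
    rw [← Scheme.Hom.comp_apply, hsq.w, Scheme.Hom.comp_apply]
  obtain ⟨a, ha, hea, hda, -⟩ := exists_fibreDimAt_eq f' x'
  obtain ⟨b, hb, heb, hdb, hball⟩ := exists_fibreDimAt_eq f (g' x')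
  refine le_antisymm ?_ ?_
  · rw [hda, hdb]
    refine Nat.cast_le.2 ((rd_baseChange_le hsq a).trans (hball _ (ha.map g'.continuous) ?_))
    rw [← Scheme.Hom.comp_apply, hsq.w, Scheme.Hom.comp_apply, hea, hfib]
  · rw [hdb]
    have hbm : b ∈ f ⁻¹' {g (f' x')} := heb.trans hfib
    let zb := (f.fiberHomeo (g (f' x'))).symm ⟨b, hbm⟩
    have hzb : f.fiberι _ zb = b := f.fiberι_fiberHomeo_symm _ _
    have hsp : zb ⤳ pr (f'.asFiber x') := by
      rw [← (f.fiberι (g (f' x'))).isEmbedding.isInducing.specializes_iff, hzb, hpr, f'.fiberι_asFiber]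
      exact hb
    haveI : Flat pr := MorphismProperty.of_isPullback sq.flip inferInstance
    obtain ⟨w, hw, hwb⟩ := DimF18.exists_lift_specializes pr hsp
    obtain ⟨m, hm, -, hmd⟩ := DimF18.exists_sdim_eq sq w
    rw [← rd_fiberι, ← rd_fiberι, hwb, hzb] at hmd
    rw [← hmd]
    exact rd_le_fibreDimAt f' (fiberι_mem f' (hm.trans hw)).1 (fiberι_mem f' (hm.trans hw)).2

theorem hasRelDim_baseChange (hsq : IsPullback g' f' f g) {d : ℕ} (hf : Cyc.HasRelDim f d) :
    Cyc.HasRelDim f' d := by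
  rw [hasRelDim_iff] at hf ⊢
  intro x' hx'
  obtain ⟨pr, hpr, sq⟩ := exists_fibre_square hsq (f' x')
  have hmax := (isMaxFib_fiberι f' (f' x') (f'.asFiber x')).1 (by rwa [f'.fiberι_asFiber])
  have h := (DimF18.sdim_bc sq (f'.asFiber x')).2 fun w hw _ => hmax w hw
  haveI : Flat pr := MorphismProperty.of_isPullback sq.flip inferInstance
  rw [← rd_fiberι, ← rd_fiberι, f'.fiberι_asFiber] at h
  rw [h]
  refine hf _ ((isMaxFib_fiberι f _ _).2 fun z hz => ?_)
  obtain ⟨w, hw, rfl⟩ := DimF18.exists_lift_specializes pr hz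
  rw [hmax w hw]

/-- Over a point of the fibre product there is a point with the same residual degree. -/
theorem exists_over_rd_eq (hsq : IsPullback g' f' f g) (x : X) (s' : S') (h : f x = g s') :
    ∃ x' : X', g' x' = x ∧ f' x' = s' ∧ rd f' x' = rd f x := by
  obtain ⟨pr, hpr, sq⟩ := exists_fibre_square hsq s'
  let z := (f.fiberHomeo (g s')).symm ⟨x, h⟩
  have hz : f.fiberι _ z = x := f.fiberι_fiberHomeo_symm _ _
  obtain ⟨m, hm, hmd⟩ := DimF18.exists_over sq z
  refine ⟨f'.fiberι s' m, by rw [← hpr, hm, hz], ?_, ?_⟩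
  · have hmem : f'.fiberι s' m ∈ Set.range (f'.fiberι s') := ⟨m, rfl⟩
    rwa [f'.range_fiberι] at hmem
  · rwa [← rd_fiberι, ← rd_fiberι, hz] at hmd

end Groth.Agent.FibDim14
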