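import Groth.Agent.Lib.FibDim14.Comp
import Groth.Agent.Lib.VarDim.Alg
import Mathlib.RingTheory.LocalRing.ResidueField.Fiber
import Mathlib.RingTheory.TensorProduct.MvPolynomial
import Mathlib.AlgebraicGeometry.ZariskisMainTheorem

/-!
# Semicontinuity of the dimension of the fibre at a point (Chevalley)
-/

universe u

open CategoryTheory AlgebraicGeometry Topology TopologicalSpace TensorProduct Order

set_option backward.isDefEq.respectTransparency.types false

namespace Groth.Agent.FibDim14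

variable {A B : Type u} [CommRing A] [CommRing B] [Algebra A B]

/-- elements of `B` that give a finite map from affine space onto the fibre -/
theorem exists_fibre_normalization [Algebra.FiniteType A B] (p : PrimeSpectrum A)
    [Nontrivial (p.asIdeal.Fiber B)] {n : ℕ} (hn : ringKrullDim (p.asIdeal.Fiber B) ≤ (n : WithBot ℕ∞)) :
    ∃ (m : ℕ) (b : Fin m → B), m ≤ n ∧
      (MvPolynomial.aeval (R := p.asIdeal.ResidueField) fun i =>
        ((1 : p.asIdeal.ResidueField) ⊗ₜ[A] b i : p.asIdeal.Fiber B)).IsIntegral := by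
  let K := p.asIdeal.ResidueField
  obtain ⟨m, g, hg, hgi⟩ := exists_integral_inj_algHom_of_fg K (p.asIdeal.Fiber B)
  have hm : m ≤ n := by
    letI : Algebra (MvPolynomial (Fin m) K) (p.asIdeal.Fiber B) := g.toRingHom.toAlgebra
    haveI : Algebra.IsIntegral (MvPolynomial (Fin m) K) (p.asIdeal.Fiber B) := ⟨hgi⟩
    rw [(VarDim.ringKrullDim_eq_of_isIntegral (R := MvPolynomial (Fin m) K) (S := p.asIdeal.Fiber B) hg).trans
      (VarDim.ringKrullDim_mvPolynomial K m)] at hn
    exact_mod_cast hn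
  choose r hr b hb using fun i => Ideal.Fiber.exists_smul_eq_one_tmul p.asIdeal (g (MvPolynomial.X i))
  refine ⟨m, b, hm, ?_⟩
  let σ : MvPolynomial (Fin m) K →ₐ[K] MvPolynomial (Fin m) K :=
    MvPolynomial.aeval fun i => (algebraMap A K (r i))⁻¹ • MvPolynomial.X i
  have hcomp : (MvPolynomial.aeval (R := K) fun i => ((1 : K) ⊗ₜ[A] b i : p.asIdeal.Fiber B)).comp σ = g := by
    refine MvPolynomial.algHom_ext fun i => ?_
    have hne : algebraMap A K (r i) ≠ 0 := fun h => hr i ((Ideal.algebraMap_residueField_eq_zero).1 h)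
    rw [AlgHom.comp_apply, MvPolynomial.aeval_X, map_smul, MvPolynomial.aeval_X, ← hb i,
      ← algebraMap_smul K (r i) (g (MvPolynomial.X i)), smul_smul, inv_mul_cancel₀ hne, one_smul]
  intro y
  refine RingHom.IsIntegral.tower_top σ.toRingHom
    (MvPolynomial.aeval (R := K) fun i => ((1 : K) ⊗ₜ[A] b i : p.asIdeal.Fiber B)).toRingHom ?_ y
  change ((MvPolynomial.aeval (R := K) fun i => ((1 : K) ⊗ₜ[A] b i : p.asIdeal.Fiber B)).comp σ).toRingHom.IsIntegral
  rw [hcomp]
  exact hgi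

theorem injective_comap_map (p : PrimeSpectrum A) (m : ℕ) : Function.Injective (PrimeSpectrum.comap
    (MvPolynomial.map (σ := Fin m) (algebraMap A p.asIdeal.ResidueField))) := by
  let e := MvPolynomial.algebraTensorAlgEquiv (σ := Fin m) A p.asIdeal.ResidueField
  have h : (MvPolynomial.map (σ := Fin m) (algebraMap A p.asIdeal.ResidueField)) = e.toRingEquiv.toRingHom.comp
      (Algebra.TensorProduct.includeRight : MvPolynomial (Fin m) A →ₐ[A] _).toRingHom :=
    RingHom.ext fun x => ((MvPolynomial.algebraTensorAlgEquiv_tmul _ _ (1 : p.asIdeal.ResidueField) x).trans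
      (one_smul _ _)).symm
  rw [h, PrimeSpectrum.comap_comp]
  refine Function.Injective.comp (fun a b hab => ?_) (PrimeSpectrum.comap_injective_of_surjective _ e.surjective)
  exact (PrimeSpectrum.preimageHomeomorphFiber A (MvPolynomial (Fin m) A) p).symm.injective (Subtype.ext hab)

theorem isEmbedding_fibre (p : PrimeSpectrum A) : IsEmbedding (PrimeSpectrum.comap
    (Algebra.TensorProduct.includeRight : B →ₐ[A] p.asIdeal.Fiber B).toRingHom) :=
  IsEmbedding.subtypeVal.comp (PrimeSpectrum.preimageHomeomorphFiber A B p).symm.isEmbedding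

theorem fibreDimAt_affineSpace_le (m : ℕ) (q : Spec (CommRingCat.of (MvPolynomial (Fin m) A))) :
    FlatMor.fibreDimAt (Spec.map (CommRingCat.ofHom (algebraMap A (MvPolynomial (Fin m) A)))) q ≤
      (m : WithBot ℕ∞) := by
  rw [fibreDimAt_eq_localDim_preimage]
  refine (TopDimLib.localDim_le _).trans (le_of_eq ?_)
  rw [← VarDim.ringKrullDim_mvPolynomial
    ((PrimeSpectrum.comap (algebraMap A (MvPolynomial (Fin m) A)) q).asIdeal.ResidueField) m,
    ← ringKrullDim_eq_of_ringEquiv (MvPolynomial.algebraTensorAlgEquiv A _ (σ := Fin m)).toRingEquiv,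
    ← PrimeSpectrum.topologicalKrullDim_eq_ringKrullDim]
  exact IsHomeomorph.topologicalKrullDim_eq _
    (PrimeSpectrum.preimageHomeomorphFiber A (MvPolynomial (Fin m) A) _).isHomeomorph

theorem exists_opens_fibreDimAt_le_spec {A B : CommRingCat.{u}} (φ : A ⟶ B) (hφ : φ.hom.FiniteType)
    (x : Spec B) {n : ℕ}
    (hn : topologicalKrullDim ((Spec.map φ) ⁻¹' {Spec.map φ x} : Set (Spec B)) ≤ (n : WithBot ℕ∞)) :
    ∃ O : (Spec B).Opens, x ∈ O ∧ ∀ z ∈ O, FlatMor.fibreDimAt (Spec.map φ) z ≤ (n : WithBot ℕ∞) := by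
  letI : Algebra A B := φ.hom.toAlgebra
  haveI : Algebra.FiniteType A B := hφ
  haveI hlft : LocallyOfFiniteType (Spec.map φ) := (HasRingHomProperty.Spec_iff (P := @LocallyOfFiniteType)).2 hφ
  let p : PrimeSpectrum A := PrimeSpectrum.comap (algebraMap A B) x
  let H := PrimeSpectrum.preimageHomeomorphFiber A B p
  haveI : Nontrivial (p.asIdeal.Fiber B) := (H ⟨x, rfl⟩).nontrivial
  have hdim : ringKrullDim (p.asIdeal.Fiber B) ≤ (n : WithBot ℕ∞) := by
    rw [← PrimeSpectrum.topologicalKrullDim_eq_ringKrullDim, ← IsHomeomorph.topologicalKrullDim_eq _ H.isHomeomorph]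
    exact hn
  obtain ⟨m, b, hm, hint⟩ := exists_fibre_normalization p hdim
  let ψ : MvPolynomial (Fin m) A →ₐ[A] B := MvPolynomial.aeval b
  let ψK : MvPolynomial (Fin m) p.asIdeal.ResidueField →ₐ[p.asIdeal.ResidueField] p.asIdeal.Fiber B :=
    MvPolynomial.aeval fun i => ((1 : p.asIdeal.ResidueField) ⊗ₜ[A] b i : p.asIdeal.Fiber B)
  let a : Spec B ⟶ Spec (CommRingCat.of (MvPolynomial (Fin m) A)) := Spec.map (CommRingCat.ofHom ψ.toRingHom)
  let aK := Spec.map (CommRingCat.ofHom ψK.toRingHom)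
  let π : Spec (CommRingCat.of (MvPolynomial (Fin m) A)) ⟶ Spec A :=
    Spec.map (CommRingCat.ofHom (algebraMap A (MvPolynomial (Fin m) A)))
  have haπ : a ≫ π = Spec.map φ := by
    rw [← Spec.map_comp]
    exact congrArg Spec.map (CommRingCat.hom_ext (RingHom.ext fun t => ψ.commutes t))
  haveI : LocallyOfFiniteType π := (HasRingHomProperty.Spec_iff (P := @LocallyOfFiniteType)).2
    (RingHom.finiteType_algebraMap.2 inferInstance)
  haveI : LocallyOfFiniteType (a ≫ π) := haπ ▸ hlft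
  haveI : LocallyOfFiniteType a := locallyOfFiniteType_of_comp a π
  have hsq : (Algebra.TensorProduct.includeRight : B →ₐ[A] p.asIdeal.Fiber B).toRingHom.comp ψ.toRingHom =
      ψK.toRingHom.comp (MvPolynomial.map (algebraMap A p.asIdeal.ResidueField)) := by
    refine MvPolynomial.ringHom_ext (fun t => ?_) fun i => ?_
    · simp [ψ, ψK, IsScalarTower.algebraMap_apply A p.asIdeal.ResidueField (p.asIdeal.Fiber B)]
    · simp [ψ, ψK]
  have hfin : ψK.toRingHom.Finite :=
    RingHom.finite_iff_isIntegral_and_finiteType.2 ⟨hint, by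
      letI := ψK.toRingHom.toAlgebra
      haveI : IsScalarTower p.asIdeal.ResidueField (MvPolynomial (Fin m) p.asIdeal.ResidueField) (p.asIdeal.Fiber B) :=
        IsScalarTower.of_algHom ψK
      exact Algebra.FiniteType.of_restrictScalars_finiteType p.asIdeal.ResidueField _ _⟩
  haveI : IsFinite aK := (IsFinite.SpecMap_iff _).2 hfin
  let z : Spec (CommRingCat.of (p.asIdeal.Fiber B)) := H ⟨x, rfl⟩
  let ι : Spec (CommRingCat.of (p.asIdeal.Fiber B)) → Spec B :=
    PrimeSpectrum.comap (Algebra.TensorProduct.includeRight : B →ₐ[A] p.asIdeal.Fiber B).toRingHom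
  have hι : IsEmbedding ι := isEmbedding_fibre p
  have hzx : ι z = x := congrArg Subtype.val (H.symm_apply_apply ⟨x, rfl⟩)
  have hcomm : ∀ w, a (ι w) = PrimeSpectrum.comap (MvPolynomial.map (algebraMap A p.asIdeal.ResidueField)) (aK w) :=
    fun w => congrArg (fun f => PrimeSpectrum.comap f w) hsq
  have hzero : FlatMor.fibreDimAt a x = 0 := by
    rw [← fibreDimAt_eq_zero aK z, fibreDimAt_eq_localDim_preimage, fibreDimAt_eq_localDim_preimage]
    let e : (aK ⁻¹' {aK z} : Set (Spec (CommRingCat.of (p.asIdeal.Fiber B)))) → Spec B := fun w => ι w.1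
    symm
    refine localDim_of_range (T := a ⁻¹' {a x}) (e := e) (hι.comp IsEmbedding.subtypeVal) ?_ ⟨z, rfl⟩ hzx rfl
    ext y
    constructor
    · rintro ⟨⟨w, hw⟩, rfl⟩
      show a (ι w) = a x
      rw [← hzx, hcomm, hcomm, show aK w = aK z from hw]
    · intro hy
      have hy : a y = a x := hy
      have hp : PrimeSpectrum.comap (algebraMap A B) y = p := by
        have h1 := congrArg π hy
        rw [← Scheme.Hom.comp_apply, ← Scheme.Hom.comp_apply, haπ] at h1
        exact h1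
      let w : Spec (CommRingCat.of (p.asIdeal.Fiber B)) := H ⟨y, hp⟩
      have hwy : ι w = y := congrArg Subtype.val (H.symm_apply_apply ⟨y, hp⟩)
      refine ⟨⟨w, injective_comap_map p m ?_⟩, hwy⟩
      rw [← hcomm, ← hcomm, hwy, hzx, hy]
  refine ⟨a.quasiFiniteLocus, (fibreDimAt_eq_zero_iff a x).1 hzero, fun y hy => ?_⟩
  have h1 := fibreDimAt_comp_le a π y
  rw [(fibreDimAt_eq_zero_iff a y).2 hy, zero_add, haπ] at h1
  exact (h1.trans (fibreDimAt_affineSpace_le m _)).trans (by exact_mod_cast hm)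

theorem isOpen_fibreDimAt_le {X S : Scheme.{u}} (f : X ⟶ S) [LocallyOfFiniteType f] (n : ℕ) :
    IsOpen {x : X | FlatMor.fibreDimAt f x ≤ (n : WithBot ℕ∞)} := by
  refine isOpen_iff_forall_mem_open.2 fun x hx => ?_
  have hx' : FlatMor.fibreDimAt f x ≤ (n : WithBot ℕ∞) := hx
  rw [fibreDimAt_eq_localDim_preimage] at hx'
  obtain ⟨W, hW⟩ := TopDimLib.exists_localDim_eq (X := (f ⁻¹' {f x} : Set X)) ⟨x, rfl⟩
  obtain ⟨O, hO, hOW⟩ := isOpen_induced_iff.1 W.1.isOpen
  have hxO : x ∈ O := by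
    have hxW : (⟨x, rfl⟩ : (f ⁻¹' {f x} : Set X)) ∈ (W.1 : Set (f ⁻¹' {f x} : Set X)) := W.2
    rw [← hOW] at hxW
    exact hxW
  obtain ⟨V, hV, hfxV, -⟩ := exists_isAffineOpen_mem_and_subset (U := (⊤ : S.Opens)) (x := f x) trivial
  obtain ⟨U, hU, hxU, hUO⟩ := exists_isAffineOpen_mem_and_subset (U := (⟨O, hO⟩ ⊓ f ⁻¹ᵁ V : X.Opens)) (x := x) ⟨hxO, hfxV⟩
  have hUV : U ≤ f ⁻¹ᵁ V := fun y hy => (hUO hy).2
  let φ := f.appLE V U hUV
  have hcomp : hU.fromSpec ≫ f = Spec.map φ ≫ hV.fromSpec := (IsAffineOpen.SpecMap_appLE_fromSpec f hV hU hUV).symm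
  have hφ : φ.hom.FiniteType := f.finiteType_appLE hV hU hUV
  haveI : LocallyOfFiniteType (Spec.map φ) := (HasRingHomProperty.Spec_iff (P := @LocallyOfFiniteType)).2 hφ
  let z : Spec Γ(X, U) := hU.primeIdealOf ⟨x, hxU⟩
  have hz : hU.fromSpec z = x := hU.fromSpec_primeIdealOf ⟨x, hxU⟩
  have hlift : ∀ t, f (hU.fromSpec t) = hV.fromSpec (Spec.map φ t) := fun t => by
    rw [← Scheme.Hom.comp_apply, hcomp, Scheme.Hom.comp_apply]
  have hbound : topologicalKrullDim ((Spec.map φ) ⁻¹' {Spec.map φ z} : Set _) ≤ (n : WithBot ℕ∞) := by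
    refine le_trans ?_ (hW.le.trans hx')
    let T : Set _ := (Spec.map φ) ⁻¹' {Spec.map φ z}
    have hmemF : ∀ t : T, hU.fromSpec t.1 ∈ f ⁻¹' {f x} := fun t => by
      show f (hU.fromSpec t.1) = f x
      rw [← hz, hlift, hlift, show Spec.map φ t.1 = Spec.map φ z from t.2]
    have hmemW : ∀ t : T, (⟨_, hmemF t⟩ : (f ⁻¹' {f x} : Set X)) ∈ (W.1 : Set (f ⁻¹' {f x} : Set X)) := fun t => by
      rw [← hOW]
      have hm : hU.fromSpec t.1 ∈ Set.range hU.fromSpec := Set.mem_range_self t.1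
      rw [hU.range_fromSpec] at hm
      exact (hUO hm).1
    exact IsInducing.topologicalKrullDim_le
      (f := fun t : T => (⟨⟨_, hmemF t⟩, hmemW t⟩ : (W.1 : Set (f ⁻¹' {f x} : Set X))))
      (IsInducing.of_comp (by fun_prop) (continuous_subtype_val.comp continuous_subtype_val)
        (hU.fromSpec.isEmbedding.isInducing.comp IsInducing.subtypeVal))
  obtain ⟨O', hzO', hO'⟩ := exists_opens_fibreDimAt_le_spec φ hφ z hbound
  refine ⟨hU.fromSpec '' (O' : Set _), ?_, hU.fromSpec.isOpenEmbedding.isOpenMap _ O'.isOpen, ⟨z, hzO', hz⟩⟩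
  rintro _ ⟨t, ht, rfl⟩
  show FlatMor.fibreDimAt f (hU.fromSpec t) ≤ _
  rw [← fibreDimAt_etale_comp hU.fromSpec f, hcomp, fibreDimAt_comp_lqf]
  exact hO' t ht

end Groth.Agent.FibDim14
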