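import Groth.Agent.Lib.VarDim.Scheme
import Groth.Agent.Lib.VarDim.Fibre
import Groth.Agent.Lib.VarDim.Irred
import Groth.Prelude.Def_Flat

/-!
# Residual transcendence degrees in fibres
-/

universe u

open CategoryTheory AlgebraicGeometry Order

set_option backward.isDefEq.respectTransparency.types false

namespace Groth.Agent.FibDim14

open Groth.Agent.VarDim

/-- transcendence degree of `κ(x)` over `κ(f x)` -/
noncomputable def rdeg {X Y : Scheme.{u}} (f : X ⟶ Y) (x : X) : Cardinal.{u} :=
  @Algebra.trdeg (Y.residueField (f x)) (X.residueField x) _ _ (f.residueFieldMap x).hom.toAlgebra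

theorem rdeg_comp {X Y Z : Scheme.{u}} (g : X ⟶ Y) (f : Y ⟶ Z) (x : X) :
    rdeg (g ≫ f) x = rdeg f (g x) + rdeg g x := by
  letI := (f.residueFieldMap (g x)).hom.toAlgebra
  letI := (g.residueFieldMap x).hom.toAlgebra
  letI : Algebra (Z.residueField (f (g x))) (X.residueField x) := ((g ≫ f).residueFieldMap x).hom.toAlgebra
  haveI : IsScalarTower (Z.residueField (f (g x))) (Y.residueField (g x)) (X.residueField x) :=
    IsScalarTower.of_algebraMap_eq' (congrArg CommRingCat.Hom.hom (Scheme.residueFieldMap_comp g f x))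
  exact (trdeg_add_eq (Z.residueField (f (g x))) (Y.residueField (g x)) (A := X.residueField x)).symm

theorem rdeg_eq_zero {X Y : Scheme.{u}} (g : X ⟶ Y) [SurjectiveOnStalks g] (x : X) : rdeg g x = 0 := by
  letI := (g.residueFieldMap x).hom.toAlgebra
  haveI : Algebra.IsAlgebraic (Y.residueField (g x)) (X.residueField x) := ⟨fun b => by
    obtain ⟨b, rfl⟩ := Scheme.residue_surjective X x b
    obtain ⟨a, rfl⟩ := g.stalkMap_surjective x b
    rw [show X.residue x (g.stalkMap x a) = algebraMap (Y.residueField (g x)) (X.residueField x) (Y.residue _ a) from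
      (ConcreteCategory.congr_hom (Scheme.residue_residueFieldMap g x) a).symm]
    exact isAlgebraic_algebraMap _⟩
  exact trdeg_eq_zero (R := Y.residueField (g x)) (A := X.residueField x)

variable {X S : Scheme.{u}} (f : X ⟶ S) [LocallyOfFiniteType f]

/-- the structure map of a fibre over the residue field -/
noncomputable def toPt (s : S) : f.fiber s ⟶ Spec (CommRingCat.of ↑(S.residueField s)) :=
  f.fiberToSpecResidueField s

instance (s : S) : LocallyOfFiniteType (toPt f s) :=
  MorphismProperty.pullback_snd _ _ inferInstance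

theorem rdeg_fiberι (s : S) (z : f.fiber s) : rdeg f (f.fiberι s z) = (sdim (toPt f s) z : Cardinal) := by
  let e : Spec (CommRingCat.of ↑(S.residueField s)) ⟶ S := S.fromSpecResidueField s
  haveI : SurjectiveOnStalks e := (inferInstance : SurjectiveOnStalks (S.fromSpecResidueField s))
  have h1 := rdeg_comp (f.fiberι s) f z
  have h2 := rdeg_comp (toPt f s) e z
  have he : f.fiberι s ≫ f = toPt f s ≫ e := Scheme.Hom.fiber_fac f s
  rw [rdeg_eq_zero (f.fiberι s), add_zero, he, h2, rdeg_eq_zero e, zero_add] at h1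
  rw [← h1]
  exact trdeg_over_pt (toPt f s) z

theorem rdeg_lt_of_specializes {x x' : X} (hsp : x ⤳ x') (hne : x ≠ x') (hfx : f x = f x') :
    rdeg f x' < rdeg f x := by
  let s := f x'
  let z := (f.fiberHomeo s).symm ⟨x, hfx⟩
  let z' := (f.fiberHomeo s).symm ⟨x', rfl⟩
  have hz : f.fiberι s z = x := f.fiberι_fiberHomeo_symm s _
  have hz' : f.fiberι s z' = x' := f.fiberι_fiberHomeo_symm s _
  have hsp' : z ⤳ z' := by
    rw [← (f.fiberι s).isEmbedding.isInducing.specializes_iff]
    exact hz.symm ▸ hz'.symm ▸ hsp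
  have hne' : z ≠ z' := fun h => hne (by rw [← hz, ← hz', h])
  have := sdim_lt_of_specializes (toPt f s) hsp' hne'
  rw [← hz, ← hz', rdeg_fiberι, rdeg_fiberι]
  exact_mod_cast this

omit [LocallyOfFiniteType f] in
theorem localDim_mono_of_specializes {T : Type*} [TopologicalSpace T] {x y : T} (h : x ⤳ y) :
    FlatMor.localDim T x ≤ FlatMor.localDim T y :=
  le_iInf fun U => iInf_le_of_le ⟨U.1, h.mem_open U.1.isOpen U.2⟩ le_rfl

omit [LocallyOfFiniteType f] in
theorem stalk_dim_lt {k : Type u} [Field k] {Z : Scheme.{u}} (p : Z ⟶ Spec (CommRingCat.of k)) [LocallyOfFiniteType p]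
    {x y : Z} (h : x ⤳ y) (hne : x ≠ y) :
    ringKrullDim (Z.presheaf.stalk x) < ringKrullDim (Z.presheaf.stalk y) := by
  haveI : IsLocallyNoetherian Z := LocallyOfFiniteType.isLocallyNoetherian p
  rw [ringKrullDim_stalk_eq_coheight, ringKrullDim_stalk_eq_coheight, WithBot.coe_lt_coe]
  refine coheight_strictAnti (lt_of_specializes_ne h hne.symm) ?_
  have hlt : ringKrullDim (Z.presheaf.stalk x) < ⊤ := ringKrullDim_lt_top
  rw [ringKrullDim_stalk_eq_coheight] at hlt
  exact WithBot.coe_lt_coe.1 hlt

end Groth.Agent.FibDim14
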