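import Groth.Agent.Lib.FibDim14.Basic
import Groth.Agent.Lib.AlgSpDecent.MonoPoint
import Mathlib.AlgebraicGeometry.Morphisms.Etale
import Groth.Prelude.Def_Cyc

/-!
# Fibre dimensions of composites; relative dimension
-/

universe u

open CategoryTheory Limits AlgebraicGeometry Order Topology

set_option backward.isDefEq.respectTransparency.types false

namespace Groth.Agent.FibDim14

open Groth.Agent.VarDim

variable {X Y Z : Scheme.{u}} (f : X ⟶ Y) (g : Y ⟶ Z) [LocallyOfFiniteType f] [LocallyOfFiniteType g]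

theorem rd_comp (x : X) : rd (f ≫ g) x = rd g (f x) + rd f x := by
  have h := rdeg_comp f g x
  rw [rdeg_eq_rd, rdeg_eq_rd, rdeg_eq_rd] at h
  exact_mod_cast h

omit [LocallyOfFiniteType f] [LocallyOfFiniteType g] in
theorem rd_of_surjectiveOnStalks [SurjectiveOnStalks f] (x : X) : rd f x = 0 := by
  rw [rd, rdeg_eq_zero, map_zero]

theorem rd_lt_of_specializes {x x' : X} (hsp : x ⤳ x') (hne : x ≠ x') (e : f x = f x') : rd f x' < rd f x := by
  have h := rdeg_lt_of_specializes f hsp hne e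
  rw [rdeg_eq_rd, rdeg_eq_rd] at h
  exact_mod_cast h

/-- going down at the generizations of `x` -/
def GoDown (x : X) : Prop := ∀ x₂, x₂ ⤳ x → ∀ y', y' ⤳ f x₂ → ∃ x₁, x₁ ⤳ x₂ ∧ f x₁ = y'

omit [LocallyOfFiniteType f] in
theorem goDown_of_flat [Flat f] (x : X) : GoDown f x := fun _ _ _ hy => Flat.generalizingMap f hy

omit [LocallyOfFiniteType f] in
theorem goDown_of_flat_stalk (x : X) (hf : (f.stalkMap x).hom.Flat) : GoDown f x := by
  intro x₂ hx₂ y' hy'
  haveI : Flat (Spec.map (f.stalkMap x)) := Flat.SpecMap_iff.2 hf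
  have hmem : x₂ ∈ Set.range (X.fromSpecStalk x) := by
    rw [Scheme.range_fromSpecStalk]; exact hx₂
  obtain ⟨p, hp⟩ := hmem
  have hy2 : y' ∈ Set.range (Y.fromSpecStalk (f x)) := by
    rw [Scheme.range_fromSpecStalk]; exact hy'.trans (hx₂.map f.continuous)
  obtain ⟨q, hq⟩ := hy2
  have hcomm : ∀ t, Y.fromSpecStalk (f x) (Spec.map (f.stalkMap x) t) = f (X.fromSpecStalk x t) := fun t => by
    rw [← Scheme.Hom.comp_apply, Scheme.SpecMap_stalkMap_fromSpecStalk, Scheme.Hom.comp_apply]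
  have hqp : q ⤳ Spec.map (f.stalkMap x) p := by
    rw [← (Y.fromSpecStalk (f x)).isEmbedding.isInducing.specializes_iff, hq, hcomm, hp]
    exact hy'
  obtain ⟨p', hp', he⟩ := Flat.generalizingMap (Spec.map (f.stalkMap x)) hqp
  refine ⟨X.fromSpecStalk x p', hp ▸ hp'.map (X.fromSpecStalk x).continuous, ?_⟩
  rw [← hcomm, he, hq]

section FibMap

variable (s : Z)

/-- the map of fibres over `s` -/
noncomputable def fibMap : (f ≫ g).fiber s ⟶ g.fiber s :=
  pullback.lift ((f ≫ g).fiberι s ≫ f) ((f ≫ g).fiberToSpecResidueField s)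
    (by rw [Category.assoc]; exact Scheme.Hom.fiber_fac _ _)

omit [LocallyOfFiniteType f] [LocallyOfFiniteType g] in
theorem fiberι_fibMap (z : (f ≫ g).fiber s) : g.fiberι s (fibMap f g s z) = f ((f ≫ g).fiberι s z) := by
  have h : fibMap f g s ≫ g.fiberι s = (f ≫ g).fiberι s ≫ f := pullback.lift_fst _ _ _
  rw [← Scheme.Hom.comp_apply, h, Scheme.Hom.comp_apply]

omit [LocallyOfFiniteType f] [LocallyOfFiniteType g] in
theorem fiberι_apply_eq (z : (f ≫ g).fiber s) : g (f ((f ≫ g).fiberι s z)) = s := by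
  have hm : (f ≫ g).fiberι s z ∈ Set.range ((f ≫ g).fiberι s) := ⟨z, rfl⟩
  rw [(f ≫ g).range_fiberι] at hm
  exact hm

end FibMap

/-- Chevalley: the fibre dimension does not drop under specialization inside a fibre of `g`. -/
theorem exists_rd_ge {x x' : X} (h : x' ⤳ x) (e : g (f x') = g (f x)) :
    ∃ x'', x'' ⤳ x ∧ f x'' = f x ∧ rd f x' ≤ rd f x'' := by
  let s := (f ≫ g) x
  obtain ⟨z', rfl, hz'⟩ := exists_fiber_pt (f ≫ g) h e
  let φ : (f ≫ g).fiber s ⟶ g.fiber s := fibMap f g s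
  have hcomp : φ ≫ toPt g s = toPt (f ≫ g) s := pullback.lift_snd _ _ _
  haveI : LocallyOfFiniteType (φ ≫ toPt g s) := hcomp ▸ inferInstance
  haveI : LocallyOfFiniteType φ := locallyOfFiniteType_of_comp φ (toPt g s)
  obtain ⟨z'', -, hz'', he, hineq⟩ := exists_fibre_lower (toPt g s) φ (ζ := z') (x := (f ≫ g).asFiber x) hz'
  simp only [hcomp, ← rd_fiberι] at hineq
  rw [fiberι_fibMap, fiberι_fibMap, rd_comp, rd_comp, Scheme.Hom.fiberι_asFiber] at hineq
  have he' : f ((f ≫ g).fiberι s z'') = f x := by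
    have := congrArg (g.fiberι s) he
    rwa [fiberι_fibMap, fiberι_fibMap, Scheme.Hom.fiberι_asFiber] at this
  refine ⟨(f ≫ g).fiberι s z'', (fiberι_mem (f ≫ g) hz'').1, he', ?_⟩
  rw [he'] at hineq
  change rd f ((f ≫ g).fiberι s z') ≤ _
  omega

/-- Lifting a generization in a fibre of `g` adds at least its dimension. -/
theorem exists_lift_rd_ge {x : X} (hg : GoDown f x) : ∀ x₂, x₂ ⤳ x → ∀ y', y' ⤳ f x₂ → g y' = g (f x₂) →
    ∃ x₁, x₁ ⤳ x₂ ∧ f x₁ = y' ∧ rd (f ≫ g) x₂ + rd g y' ≤ rd (f ≫ g) x₁ + rd g (f x₂) := by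
  intro x₂ hx₂ y'
  induction hn : rd g y' - rd g (f x₂) using Nat.strong_induction_on generalizing x₂ with
  | _ n ih =>
    intro hy he
    classical
    by_cases heq : y' = f x₂
    · exact ⟨x₂, specializes_rfl, heq.symm, by rw [heq]⟩
    let P : ℕ → Prop := fun m => ∃ w, y' ⤳ w ∧ w ⤳ f x₂ ∧ w ≠ f x₂ ∧ rd g w = m
    have hP : ∃ m, P m := ⟨_, y', specializes_rfl, hy, heq, rfl⟩
    obtain ⟨w, hw1, hw2, hwne, hwm⟩ := Nat.find_spec hP
    have hgw : g w = g (f x₂) :=
      (((hw2.map g.continuous)).antisymm (he ▸ hw1.map g.continuous)).eq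
    have hlt : rd g (f x₂) < rd g w := rd_lt_of_specializes g hw2 hwne hgw
    -- the dimension goes up by exactly one
    have hstep : rd g w = rd g (f x₂) + 1 := by
      obtain ⟨a, ha, haw⟩ := exists_fiber_pt g hw2 hgw
      rw [← ha, rd_fiberι]
      have h1 : rd g (f x₂) = sdim (toPt g (g (f x₂))) (g.asFiber (f x₂)) := by
        rw [← rd_fiberι, g.fiberι_asFiber]
      rw [h1]
      refine DimF18.sdim_covBy (toPt g (g (f x₂))) (fun h => hwne (by rw [← ha, h, g.fiberι_asFiber])) haw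
        fun v hav hvb => ?_
      by_contra hv
      push Not at hv
      obtain ⟨hv1, hv2⟩ := hv
      have hvmin := Nat.find_min' hP (m := rd g (g.fiberι _ v)) ⟨_,
        hw1.trans (ha ▸ hav.map (g.fiberι _).continuous), (fiberι_mem g hvb).1,
        fun h => hv2 ((g.fiberι _).isEmbedding.injective (h.trans (g.fiberι_asFiber _).symm)), rfl⟩
      have hlt' := sdim_lt_of_specializes (toPt g (g (f x₂))) hav (fun h => hv1 h.symm)
      rw [← rd_fiberι, ← rd_fiberι, ha] at hlt'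
      omega
    obtain ⟨x₃, hx₃, rfl⟩ := hg x₂ hx₂ w hw2
    have hle : rd g (f x₃) ≤ rd g y' := by
      by_cases h : y' = f x₃
      · rw [h]
      · exact (rd_lt_of_specializes g hw1 h (he.trans hgw.symm)).le
    obtain ⟨x₁, hx₁, h1, h2⟩ := ih (rd g y' - rd g (f x₃)) (by omega) x₃ (hx₃.trans hx₂) rfl hw1
      (he.trans hgw.symm)
    have h3 : rd (f ≫ g) x₂ < rd (f ≫ g) x₃ :=
      rd_lt_of_specializes (f ≫ g) hx₃ (fun h => hwne (by rw [h])) hgw
    exact ⟨x₁, hx₁.trans hx₃, h1, by omega⟩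

theorem fibreDimAt_comp_le (x : X) :
    FlatMor.fibreDimAt (f ≫ g) x ≤ FlatMor.fibreDimAt f x + FlatMor.fibreDimAt g (f x) := by
  obtain ⟨x', hx', he, hd, -⟩ := exists_fibreDimAt_eq (f ≫ g) x
  obtain ⟨a, -, -, hda, hall⟩ := exists_fibreDimAt_eq f x
  obtain ⟨b, -, -, hdb, hbll⟩ := exists_fibreDimAt_eq g (f x)
  obtain ⟨x'', h1, h2, h3⟩ := exists_rd_ge f g hx' he
  have h4 := hall x'' h1 h2
  have h5 := hbll (f x') (hx'.map f.continuous) he
  rw [hd, hda, hdb, rd_comp]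
  exact_mod_cast (by omega : rd g (f x') + rd f x' ≤ rd f a + rd g b)

theorem fibreDimAt_comp_eq {x : X} (hg : GoDown f x) :
    FlatMor.fibreDimAt (f ≫ g) x = FlatMor.fibreDimAt f x + FlatMor.fibreDimAt g (f x) := by
  refine le_antisymm (fibreDimAt_comp_le f g x) ?_
  obtain ⟨x₂, hx₂, he₂, hda, -⟩ := exists_fibreDimAt_eq f x
  obtain ⟨y', hy', hey', hdb, -⟩ := exists_fibreDimAt_eq g (f x)
  obtain ⟨x₁, hx₁, h1, h2⟩ := exists_lift_rd_ge f g hg x₂ hx₂ y' (he₂.symm ▸ hy') (he₂.symm ▸ hey')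
  have h3 := rd_le_fibreDimAt (f ≫ g) (hx₁.trans hx₂) (show g (f x₁) = g (f x) by rw [h1]; exact hey')
  rw [hda, hdb]
  refine le_trans ?_ h3
  rw [rd_comp f g x₂, he₂] at h2
  exact_mod_cast (by omega : rd f x₂ + rd g y' ≤ rd (f ≫ g) x₁)

omit [LocallyOfFiniteType f] in
theorem fibreDimAt_eq_zero [LocallyQuasiFinite f] [LocallyOfFiniteType f] (x : X) :
    FlatMor.fibreDimAt f x = 0 :=
  (fibreDimAt_eq_zero_iff f x).2 (f.quasiFiniteAt x)

theorem fibreDimAt_comp_lqf [LocallyQuasiFinite g] (x : X) :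
    FlatMor.fibreDimAt (f ≫ g) x = FlatMor.fibreDimAt f x := by
  refine le_antisymm ((fibreDimAt_comp_le f g x).trans (by rw [fibreDimAt_eq_zero g, add_zero])) ?_
  obtain ⟨a, ha, he, hd, -⟩ := exists_fibreDimAt_eq f x
  rw [hd]
  refine le_trans ?_ (rd_le_fibreDimAt (f ≫ g) ha (by rw [Scheme.Hom.comp_apply, he]; rfl))
  rw [rd_comp]
  exact_mod_cast Nat.le_add_left _ _

theorem fibreDimAt_etale_comp [Etale f] (x : X) :
    FlatMor.fibreDimAt (f ≫ g) x = FlatMor.fibreDimAt g (f x) := by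
  have := AlgSpDecent.locallyQuasiFinite_of_etale f
  rw [fibreDimAt_comp_eq f g (goDown_of_flat f x), fibreDimAt_eq_zero f, zero_add]

omit [LocallyOfFiniteType g] in
/-- `x` is a maximal point of its fibre -/
def IsMaxFib (x : X) : Prop := ∀ x', x' ⤳ x → f x' = f x → x' = x

omit [LocallyOfFiniteType g] in
theorem isMaxFib_fiberι (y : Y) (z : f.fiber y) :
    IsMaxFib f (f.fiberι y z) ↔ ∀ z', z' ⤳ z → z' = z := by
  have hfz : ∀ w : f.fiber y, f (f.fiberι y w) = y := fun w => by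
    have hm : f.fiberι y w ∈ Set.range (f.fiberι y) := ⟨w, rfl⟩
    rwa [f.range_fiberι] at hm
  refine ⟨fun h z' hz' => (f.fiberι y).isEmbedding.injective
    (h _ (hz'.map (f.fiberι y).continuous) ((hfz z').trans (hfz z).symm)), fun h x' hx' he => ?_⟩
  let z' := (f.fiberHomeo y).symm ⟨x', he.trans (hfz z)⟩
  have hz' : f.fiberι y z' = x' := f.fiberι_fiberHomeo_symm _ _
  rw [← hz', h z' (by rw [← (f.fiberι y).isEmbedding.isInducing.specializes_iff, hz']; exact hx')]

omit [LocallyOfFiniteType g] in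
theorem hasRelDim_iff (d : ℕ) : Cyc.HasRelDim f d ↔ ∀ x, IsMaxFib f x → rd f x = d := by
  have key : ∀ (y : Y) (z : f.fiber y),
      topologicalKrullDim (closure {z} : Set (f.fiber y)) = (rd f (f.fiberι y z) : WithBot ℕ∞) := fun y z => by
    rw [rd_fiberι]; exact dim_closure_singleton (toPt f y) z
  constructor
  · intro h x hx
    obtain ⟨z, hz⟩ : ∃ z, f.fiberι (f x) z = x := ⟨f.asFiber x, f.fiberι_asFiber x⟩
    have hmax := (isMaxFib_fiberι f (f x) z).1 (hz.symm ▸ hx)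
    have := (key (f x) z).symm.trans (h (f x) (closure {z})
      ((maximal_iff_mem_irreducibleComponents (X := f.fiber (f x)) z).1 hmax))
    rw [hz] at this
    exact_mod_cast this
  · intro h y T hT
    obtain ⟨z, hz, hmax⟩ := exists_generic_of_mem_irreducibleComponents hT
    subst hz
    rw [key, h _ ((isMaxFib_fiberι f y z).2 hmax)]

theorem hasRelDim_comp [Flat f] {d e : ℕ} (hf : Cyc.HasRelDim f d) (hg : Cyc.HasRelDim g e) :
    Cyc.HasRelDim (f ≫ g) (d + e) := by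
  rw [hasRelDim_iff] at hf hg ⊢
  intro x hx
  have hyx : IsMaxFib g (f x) := fun y hy he => by
    obtain ⟨x', hx', rfl⟩ := Flat.generalizingMap f hy
    rw [hx x' hx' he]
  rw [rd_comp, hg _ hyx, hf x fun x' hx' he => hx x' hx' (show g (f x') = g (f x) by rw [he])]
  ring

end Groth.Agent.FibDim14
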