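import Groth.Agent.Lib.FibDim14.Semicont
import Groth.Agent.Lib.FibDim14.BaseChange
import Groth.Agent.Lib.FlatH4.NoethApprox

/-!
# Quasi-compactness of the loci of bounded fibre dimension
-/

universe u

open CategoryTheory AlgebraicGeometry Topology TopologicalSpace TensorProduct

set_option backward.isDefEq.respectTransparency.types false

namespace Groth.Agent.FibDim14

theorem isCompact_setOf_le_spec {A B : CommRingCat.{u}} (φ : A ⟶ B) (hφ : φ.hom.FinitePresentation) (n : ℕ) :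
    IsCompact {z : Spec B | FlatMor.fibreDimAt (Spec.map φ) z ≤ (n : WithBot ℕ∞)} := by
  letI : Algebra A B := φ.hom.toAlgebra
  haveI : Algebra.FinitePresentation A B := hφ
  obtain ⟨R, B₀, _, _, _, _, hR, hB₀, ⟨e⟩⟩ := FlatH4.exists_approx A B
  haveI := hB₀
  haveI : IsNoetherianRing R := Algebra.FiniteType.isNoetherianRing ℤ R
  haveI : IsNoetherianRing B₀ := Algebra.FiniteType.isNoetherianRing R B₀
  let f₀ : Spec (CommRingCat.of B₀) ⟶ Spec (CommRingCat.of R) := Spec.map (CommRingCat.ofHom (algebraMap R B₀))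
  haveI : LocallyOfFiniteType f₀ := (HasRingHomProperty.Spec_iff (P := @LocallyOfFiniteType)).2
    (RingHom.finiteType_algebraMap.2 inferInstance)
  let T := A ⊗[R] B₀
  let fT : Spec (CommRingCat.of T) ⟶ Spec A := Spec.map (CommRingCat.ofHom (algebraMap A T))
  let g' : Spec (CommRingCat.of T) ⟶ Spec (CommRingCat.of B₀) :=
    Spec.map (CommRingCat.ofHom (Algebra.TensorProduct.includeRight : B₀ →ₐ[R] T).toRingHom)
  have sq : IsPullback g' fT f₀ (Spec.map (CommRingCat.ofHom (algebraMap R A))) :=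
    (AlgebraicGeometry.isPullback_SpecMap_of_isPushout _ _ _ _
      (CommRingCat.isPushout_tensorProduct R A B₀)).flip
  haveI : LocallyOfFiniteType fT := MorphismProperty.of_isPullback sq inferInstance
  let ε : CommRingCat.of T ≅ B := e.toRingEquiv.toCommRingCatIso
  have hεφ : Spec.map φ = Spec.map ε.hom ≫ fT := by
    rw [← Spec.map_comp]
    exact congrArg Spec.map (CommRingCat.hom_ext (RingHom.ext fun a => (e.commutes a).symm))
  let ι : Spec B ⟶ Spec (CommRingCat.of B₀) := Spec.map ε.hom ≫ g'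
  have hset : {z : Spec B | FlatMor.fibreDimAt (Spec.map φ) z ≤ (n : WithBot ℕ∞)} =
      ι ⁻¹' {y | FlatMor.fibreDimAt f₀ y ≤ (n : WithBot ℕ∞)} := by
    ext z
    show FlatMor.fibreDimAt (Spec.map φ) z ≤ (n : WithBot ℕ∞) ↔ FlatMor.fibreDimAt f₀ (ι z) ≤ (n : WithBot ℕ∞)
    rw [hεφ, fibreDimAt_etale_comp, fibreDimAt_baseChange sq]
    rfl
  rw [hset]
  haveI : NoetherianSpace (Spec (CommRingCat.of B₀)) := inferInstanceAs (NoetherianSpace (PrimeSpectrum B₀))
  exact ι.isCompact_preimage (U := ⟨_, isOpen_fibreDimAt_le f₀ n⟩) (NoetherianSpace.isCompact _)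

theorem isRetrocompact_fibreDimAt_le {X S : Scheme.{u}} (f : X ⟶ S) [LocallyOfFinitePresentation f] (n : ℕ) :
    IsRetrocompact {x : X | FlatMor.fibreDimAt f x ≤ (n : WithBot ℕ∞)} := by
  intro K hK hKo
  rw [Set.inter_comm]
  have hloc : ∀ x ∈ K, ∃ (W : X.Opens), x ∈ W ∧ (W : Set X) ⊆ K ∧
      IsCompact ((W : Set X) ∩ {x : X | FlatMor.fibreDimAt f x ≤ (n : WithBot ℕ∞)}) := by
    intro x hx
    obtain ⟨V, hV, hfxV, -⟩ := exists_isAffineOpen_mem_and_subset (U := (⊤ : S.Opens)) (x := f x) trivial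
    obtain ⟨U, hU, hxU, hUO⟩ := exists_isAffineOpen_mem_and_subset (U := (⟨K, hKo⟩ ⊓ f ⁻¹ᵁ V : X.Opens)) (x := x) ⟨hx, hfxV⟩
    have hUV : U ≤ f ⁻¹ᵁ V := fun y hy => (hUO hy).2
    refine ⟨U, hxU, fun y hy => (hUO hy).1, ?_⟩
    have hcomp : hU.fromSpec ≫ f = Spec.map (f.appLE V U hUV) ≫ hV.fromSpec :=
      (IsAffineOpen.SpecMap_appLE_fromSpec f hV hU hUV).symm
    haveI : LocallyOfFiniteType (Spec.map (f.appLE V U hUV)) :=
      (HasRingHomProperty.Spec_iff (P := @LocallyOfFiniteType)).2 (f.finiteType_appLE hV hU hUV)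
    have h := (isCompact_setOf_le_spec (f.appLE V U hUV) (f.finitePresentation_appLE hV hU hUV) n).image
      hU.fromSpec.continuous
    convert h using 1
    ext y
    constructor
    · rintro ⟨hy, hy'⟩
      refine ⟨hU.primeIdealOf ⟨y, hy⟩, ?_, hU.fromSpec_primeIdealOf ⟨y, hy⟩⟩
      show FlatMor.fibreDimAt (Spec.map (f.appLE V U hUV)) _ ≤ (n : WithBot ℕ∞)
      rw [← fibreDimAt_comp_lqf (Spec.map (f.appLE V U hUV)) hV.fromSpec, ← hcomp, fibreDimAt_etale_comp,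
        hU.fromSpec_primeIdealOf]
      exact hy'
    · rintro ⟨z, hz, rfl⟩
      refine ⟨hU.range_fromSpec ▸ Set.mem_range_self z, ?_⟩
      show FlatMor.fibreDimAt f (hU.fromSpec z) ≤ _
      rw [← fibreDimAt_etale_comp hU.fromSpec f, hcomp, fibreDimAt_comp_lqf]
      exact hz
  choose W hxW hWK hWc using hloc
  obtain ⟨t, ht⟩ := hK.elim_finite_subcover (fun x : K => (W x.1 x.2 : Set X)) (fun x => (W x.1 x.2).2)
    (fun x hx => Set.mem_iUnion.2 ⟨⟨x, hx⟩, hxW x hx⟩)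
  have heq : K ∩ {x : X | FlatMor.fibreDimAt f x ≤ (n : WithBot ℕ∞)} =
      ⋃ x ∈ t, ((W x.1 x.2 : Set X) ∩ {x : X | FlatMor.fibreDimAt f x ≤ (n : WithBot ℕ∞)}) := by
    refine Set.Subset.antisymm (fun y hy => ?_) (Set.iUnion₂_subset fun x _ y hy => ⟨hWK x.1 x.2 hy.1, hy.2⟩)
    obtain ⟨x, hx, hyx⟩ := Set.mem_iUnion₂.1 (ht hy.1)
    exact Set.mem_iUnion₂.2 ⟨x, hx, hyx, hy.2⟩
  rw [heq]
  exact t.isCompact_biUnion fun x _ => hWc x.1 x.2

end Groth.Agent.FibDim14
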