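import Groth.Agent.Lib.FibDim14.Res
import Groth.Agent.Lib.DimF18.Prod
import Groth.Agent.Lib.QuasiFlat.Spec

/-!
# The dimension of a fibre at a point, through residual transcendence degrees
-/

universe u

open CategoryTheory AlgebraicGeometry Order Topology TopologicalSpace

set_option backward.isDefEq.respectTransparency.types false

namespace Groth.Agent.FibDim14

open Groth.Agent.VarDim

section Top

variable {A B : Type*} [TopologicalSpace A] [TopologicalSpace B]

theorem localDim_le_of_isEmbedding {e : A → B} (he : IsEmbedding e) (a : A) :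
    FlatMor.localDim A a ≤ FlatMor.localDim B (e a) := by
  refine le_iInf fun U => iInf_le_of_le ⟨⟨e ⁻¹' (U.1 : Set B), U.1.isOpen.preimage he.continuous⟩, U.2⟩ ?_
  exact IsInducing.topologicalKrullDim_le
    (f := fun x : (e ⁻¹' (U.1 : Set B) : Set A) => (⟨e x.1, x.2⟩ : (U.1 : Set B)))
    (IsInducing.of_comp (by have := he.continuous; fun_prop) continuous_subtype_val
      (he.isInducing.comp IsInducing.subtypeVal))

theorem localDim_of_isOpenEmbedding {e : A → B} (he : IsOpenEmbedding e) (a : A) :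
    FlatMor.localDim A a = FlatMor.localDim B (e a) := by
  refine le_antisymm (localDim_le_of_isEmbedding he.isEmbedding a) (le_iInf fun U => ?_)
  refine iInf_le_of_le ⟨⟨e '' (U.1 : Set A), he.isOpenMap _ U.1.isOpen⟩, ⟨a, U.2, rfl⟩⟩ ?_
  exact le_of_eq (IsHomeomorph.topologicalKrullDim_eq _ (he.isEmbedding.homeomorphImage U.1).isHomeomorph).symm

/-- local dimension in the range of an embedding -/
theorem localDim_of_range {e : A → B} (he : IsEmbedding e) {T : Set B} (hT : Set.range e = T) (a : A) {b : B}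
    (hb : e a = b) (hbT : b ∈ T) : FlatMor.localDim A a = FlatMor.localDim T ⟨b, hbT⟩ := by
  let h : A ≃ₜ T := he.toHomeomorph.trans (Homeomorph.setCongr hT)
  rw [localDim_of_isOpenEmbedding h.isOpenEmbedding a]
  congr 1
  exact Subtype.ext hb

end Top

theorem fibreDimAt_eq_localDim_preimage {X S : Scheme.{u}} (f : X ⟶ S) (x : X) :
    FlatMor.fibreDimAt f x = FlatMor.localDim (f ⁻¹' {f x} : Set X) ⟨x, rfl⟩ :=
  localDim_of_range (f.fiberι _).isEmbedding (f.range_fiberι _) _ (f.fiberι_asFiber x) rfl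

variable {X S : Scheme.{u}} (f : X ⟶ S) [LocallyOfFiniteType f]

/-- `rdeg` as a natural number -/
noncomputable def rd (x : X) : ℕ := (rdeg f x).toNat

theorem rd_fiberι (s : S) (z : f.fiber s) : rd f (f.fiberι s z) = sdim (toPt f s) z := by
  rw [rd, rdeg_fiberι, Cardinal.toNat_natCast]

theorem rdeg_eq_rd (x : X) : rdeg f x = (rd f x : Cardinal) := by
  obtain ⟨z, hz⟩ : ∃ z, f.fiberι (f x) z = x := ⟨f.asFiber x, f.fiberι_asFiber x⟩
  rw [← hz, rd_fiberι, rdeg_fiberι]

theorem exists_fiber_pt {x x' : X} (h : x' ⤳ x) (e : f x' = f x) :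
    ∃ z : f.fiber (f x), f.fiberι _ z = x' ∧ z ⤳ f.asFiber x := by
  refine ⟨(f.fiberHomeo (f x)).symm ⟨x', e⟩, f.fiberι_fiberHomeo_symm _ _, ?_⟩
  rw [← (f.fiberι (f x)).isEmbedding.isInducing.specializes_iff, f.fiberι_fiberHomeo_symm, f.fiberι_asFiber]
  exact h

theorem fiberι_mem {x : X} {z : f.fiber (f x)} (h : z ⤳ f.asFiber x) :
    f.fiberι _ z ⤳ x ∧ f (f.fiberι _ z) = f x := by
  have h1 := h.map (f.fiberι (f x)).continuous
  rw [f.fiberι_asFiber] at h1
  refine ⟨h1, ?_⟩
  have hm : f.fiberι (f x) z ∈ Set.range (f.fiberι (f x)) := ⟨z, rfl⟩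
  rwa [f.range_fiberι] at hm

/-- The dimension of the fibre at a point is the largest residual degree of a generization in the fibre. -/
theorem exists_fibreDimAt_eq (x : X) :
    ∃ x', x' ⤳ x ∧ f x' = f x ∧ FlatMor.fibreDimAt f x = (rd f x' : WithBot ℕ∞) ∧
      ∀ y, y ⤳ x → f y = f x → rd f y ≤ rd f x' := by
  obtain ⟨z, hz, -, hd, hall⟩ := DimF18.exists_localDim_eq_sdim (toPt f (f x)) (f.asFiber x)
  obtain ⟨h1, h2⟩ := fiberι_mem f hz
  refine ⟨f.fiberι _ z, h1, h2, hd.trans (by rw [rd_fiberι]), fun y hy he => ?_⟩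
  obtain ⟨w, rfl, hw⟩ := exists_fiber_pt f hy he
  rw [rd_fiberι, rd_fiberι]
  exact hall w hw

theorem rd_le_fibreDimAt {x y : X} (hy : y ⤳ x) (he : f y = f x) :
    (rd f y : WithBot ℕ∞) ≤ FlatMor.fibreDimAt f x := by
  obtain ⟨x', -, -, hd, hall⟩ := exists_fibreDimAt_eq f x
  rw [hd]
  exact_mod_cast hall y hy he

theorem fibreDimAt_le_iff {x : X} {n : ℕ} :
    FlatMor.fibreDimAt f x ≤ (n : WithBot ℕ∞) ↔ ∀ y, y ⤳ x → f y = f x → rd f y ≤ n := by
  obtain ⟨x', h1, h2, hd, hall⟩ := exists_fibreDimAt_eq f x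
  rw [hd]
  refine ⟨fun h y hy he => (hall y hy he).trans (by exact_mod_cast h), fun h => by exact_mod_cast h x' h1 h2⟩

theorem fibreDimAt_eq_zero_iff (x : X) : FlatMor.fibreDimAt f x = 0 ↔ f.QuasiFiniteAt x := by
  haveI : IsLocallyNoetherian (f.fiber (f x)) := LocallyOfFiniteType.isLocallyNoetherian (toPt f (f x))
  rw [Scheme.Hom.quasiFiniteAt_iff_isOpen_singleton_asFiber]
  exact QF.localDim_eq_zero_iff _

theorem localDim_asFiber_eq (x : X) :
    FlatMor.fibreDimAt f x =
      ringKrullDim ((f.fiber (f x)).presheaf.stalk (f.asFiber x)) + (rd f x : WithBot ℕ∞) := by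
  haveI : IsLocallyNoetherian (f.fiber (f x)) := LocallyOfFiniteType.isLocallyNoetherian (toPt f (f x))
  obtain ⟨b, hb⟩ := ENat.ne_top_iff_exists.1 (DimF18.coheight_ne_top (f.asFiber x))
  rw [FlatMor.fibreDimAt, DimF18.localDim_eq (toPt f (f x)) hb.symm, ringKrullDim_stalk_eq_coheight, ← hb,
    ← rd_fiberι, f.fiberι_asFiber, add_comm (rd f x) b]
  push_cast
  rfl

end Groth.Agent.FibDim14
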